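import Groth.Agent.TruncPresLib.Basic
import Mathlib

/-! The fixed subalgebra of the involution of a truncated polynomial algebra. -/

set_option autoImplicit false

open MvPolynomial QsChow TruncPresLib

namespace Groth.Agent.TruncFixLib

variable {n : ℕ} (hn : 2 ≤ n)

theorem add_self (r : P n) : r + r = 0 := by
  obtain ⟨r, rfl⟩ := Ideal.Quotient.mk_surjective r
  rw [← map_add, CharTwo.add_self_eq_zero, map_zero]

theorem eps_one_pow : eps n 1 ^ n = (0 : P n) := by
  rw [eps_eq (i0 (n := n)) (j := 1) rfl]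
  exact mk_X_pow i0 (le_of_eq bound_i0)

include hn in
theorem eps_one_mem : eps n 1 ∈ (phi n).range := ⟨X (some i0), by simp [phi, genImage, i0]⟩

include hn in
theorem w_mem : eps n 2 ^ 2 + eps n 1 * eps n 2 ∈ (phi n).range :=
  ⟨X (some (i1 hn)), by simp [phi, genImage, i1]⟩

theorem x_mem : eps n 1 ^ (n - 1) * eps n 2 ∈ (phi n).range := ⟨X none, by simp [phi, genImage]⟩

include hn in
theorem decomp (y : P n) : ∃ a ∈ (phi n).range, ∃ b ∈ (phi n).range, y = a + b * eps n 2 := by
  let S : Subalgebra (ZMod 2) (P n) :=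
    { carrier := {y | ∃ a ∈ (phi n).range, ∃ b ∈ (phi n).range, y = a + b * eps n 2}
      mul_mem' := by
        rintro _ _ ⟨a, ha, b, hb, rfl⟩ ⟨a', ha', b', hb', rfl⟩
        exact ⟨a * a' + b * b' * (eps n 2 ^ 2 + eps n 1 * eps n 2), add_mem (mul_mem ha ha') (mul_mem (mul_mem hb hb') (w_mem hn)),
          a * b' + a' * b + b * b' * eps n 1, add_mem (add_mem (mul_mem ha hb') (mul_mem ha' hb)) (mul_mem (mul_mem hb hb') (eps_one_mem hn)), by
            linear_combination -(add_self (b * b' * eps n 1 * eps n 2))⟩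
      add_mem' := by
        rintro _ _ ⟨a, ha, b, hb, rfl⟩ ⟨a', ha', b', hb', rfl⟩
        exact ⟨a + a', add_mem ha ha', b + b', add_mem hb hb', by ring⟩
      algebraMap_mem' := fun r => ⟨_, Subalgebra.algebraMap_mem _ r, 0, zero_mem _, by ring⟩ }
  suffices h : S = ⊤ by
    have hy : y ∈ S := h ▸ Algebra.mem_top
    exact hy
  have key : ∀ i : Fin (numVars n), Ideal.Quotient.mk (truncIdeal n) (X i) ∈ S := by
    intro i
    rcases Nat.lt_or_ge i.val 2 with h | h
    · rcases Nat.eq_zero_or_pos i.val with h0 | h0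
      · rw [show i = i0 from Fin.ext h0, ← eps_eq (i0 (n := n)) (j := 1) rfl]
        exact ⟨_, eps_one_mem hn, 0, zero_mem _, by ring⟩
      · rw [show i = i1 hn from Fin.ext (show i.val = 1 by omega), ← eps_eq (i1 hn) (j := 2) rfl]
        exact ⟨0, zero_mem _, 1, one_mem _, by ring⟩
    · rw [← eps_eq i (j := i.val + 1) rfl]
      refine ⟨eps n (i.val + 1) + eps n 1 ^ (2 * (i.val + 1) - 4) * eps n 2,
        ⟨X (some i), by simp [phi, genImage, show i.val ≠ 0 by omega, show i.val ≠ 1 by omega]⟩,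
        eps n 1 ^ (2 * (i.val + 1) - 4), pow_mem (eps_one_mem hn) _, ?_⟩
      linear_combination -(add_self (eps n 1 ^ (2 * (i.val + 1) - 4) * eps n 2))
  rw [eq_top_iff]
  rintro y -
  obtain ⟨p, rfl⟩ := Ideal.Quotient.mk_surjective y
  induction p using MvPolynomial.induction_on with
  | C r => exact S.algebraMap_mem r
  | add p q hp hq => rw [map_add]; exact S.add_mem hp hq
  | mul_X p i hp => rw [map_mul]; exact S.mul_mem hp (key i)

include hn in
theorem ann_eps_one {b : P n} (h : eps n 1 * b = 0) : ∃ p, b = eps n 1 ^ (n - 1) * p := by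
  classical
  obtain ⟨f, rfl⟩ := Ideal.Quotient.mk_surjective b
  rw [eps_eq (i0 (n := n)) (j := 1) rfl] at h ⊢
  rw [← map_mul, Ideal.Quotient.eq_zero_iff_mem] at h
  suffices hf : f ∈ truncIdeal n ⊔ Ideal.span {(X i0 : FreeP n) ^ (n - 1)} by
    obtain ⟨g, hg, q, hq, rfl⟩ := Submodule.mem_sup.1 hf
    obtain ⟨c, rfl⟩ := Ideal.mem_span_singleton'.1 hq
    refine ⟨Ideal.Quotient.mk _ c, ?_⟩
    rw [map_add, Ideal.Quotient.eq_zero_iff_mem.2 hg, zero_add, map_mul, map_pow, mul_comm]
  rw [f.as_sum]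
  refine Ideal.sum_mem _ fun e he => ?_
  by_cases hlt : e i0 < n - 1 ∧ ∀ i : Fin (numVars n), i ≠ i0 → e i < bound n i
  · exfalso
    apply mem_support_iff.1 he
    rw [← coeff_X_mul e i0 f]
    refine coeff_eq_zero_of_mem h fun i => ?_
    rcases eq_or_ne i i0 with rfl | hi
    · rw [bound_i0, Finsupp.add_apply, Finsupp.single_eq_same]; omega
    · rw [Finsupp.add_apply, Finsupp.single_eq_of_ne hi, zero_add]; exact hlt.2 i hi
  · obtain ⟨i, m, hmem, hle⟩ : ∃ (i : Fin (numVars n)) (m : ℕ),
        (X i : FreeP n) ^ m ∈ truncIdeal n ⊔ Ideal.span {(X i0 : FreeP n) ^ (n - 1)} ∧ m ≤ e i := by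
      by_cases h0 : e i0 < n - 1
      · have hex : ∃ i : Fin (numVars n), i ≠ i0 ∧ bound n i ≤ e i := by
          by_contra hc
          push Not at hc
          exact hlt ⟨h0, hc⟩
        obtain ⟨i, _, hi⟩ := hex
        exact ⟨i, _, Ideal.mem_sup_left (Ideal.subset_span ⟨i, rfl⟩), hi⟩
      · exact ⟨i0, n - 1, Ideal.mem_sup_right (Ideal.subset_span rfl), by omega⟩
    have he' : monomial e (coeff e f) = X i ^ m * monomial (e - Finsupp.single i m) (coeff e f) := by
      rw [X_pow_eq_monomial, monomial_mul, one_mul, add_tsub_cancel_of_le (Finsupp.single_le_iff.2 hle)]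
    rw [he']
    exact Ideal.mul_mem_right _ _ hmem

section tau

variable (τ : P n →ₐ[ZMod 2] P n) (hτ1 : τ (eps n 1) = eps n 1)
  (hτ : ∀ j : ℕ, 2 ≤ j → j ≤ numVars n → τ (eps n j) = eps n j + eps n 1 ^ (2 * j - 3))

include hn hτ in
theorem tau_eps_two : τ (eps n 2) = eps n 2 + eps n 1 := by
  simpa using hτ 2 le_rfl (by unfold numVars; omega)

include hn hτ1 hτ in
theorem range_le : (phi n).range ≤ AlgHom.equalizer τ (AlgHom.id (ZMod 2) (P n)) := by
  have h : τ.comp (phi n) = phi n := by
    refine MvPolynomial.algHom_ext fun o => ?_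
    rw [AlgHom.comp_apply, phi, aeval_X]
    cases o with
    | none =>
      simp only [genImage, map_mul, map_pow, hτ1, tau_eps_two hn τ hτ, mul_add]
      rw [← pow_succ, show n - 1 + 1 = n by omega, eps_one_pow, add_zero]
    | some i =>
      simp only [genImage]
      split_ifs with h0 h1
      · exact hτ1
      · simp only [map_add, map_pow, map_mul, hτ1, tau_eps_two hn τ hτ]
        linear_combination add_self (eps n 1 * eps n 2) + add_self (eps n 1 ^ 2)
      · simp only [map_add, map_pow, map_mul, hτ1, tau_eps_two hn τ hτ,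
          hτ (i.val + 1) (by omega) i.isLt]
        rw [show 2 * (i.val + 1) - 3 = 2 * (i.val + 1) - 4 + 1 by omega, pow_succ]
        linear_combination add_self (eps n 1 ^ (2 * (i.val + 1) - 4) * eps n 1)
  rintro _ ⟨f, rfl⟩
  exact DFunLike.congr_fun h f

include hn hτ1 hτ in
theorem add_tau {a b : P n} (ha : a ∈ (phi n).range) (hb : b ∈ (phi n).range) :
    (a + b * eps n 2) + τ (a + b * eps n 2) = eps n 1 * b := by
  have ha' : τ a = a := range_le hn τ hτ1 hτ ha
  have hb' : τ b = b := range_le hn τ hτ1 hτ hb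
  rw [map_add, map_mul, ha', hb', tau_eps_two hn τ hτ]
  linear_combination add_self a + add_self (b * eps n 2)

include hn hτ1 hτ in
theorem range_eq : (phi n).range = AlgHom.equalizer τ (AlgHom.id (ZMod 2) (P n)) := by
  refine le_antisymm (range_le hn τ hτ1 hτ) fun z hz => ?_
  obtain ⟨a, ha, b, hb, rfl⟩ := decomp hn z
  have hz' : τ (a + b * eps n 2) = a + b * eps n 2 := hz
  have h0 := add_tau hn τ hτ1 hτ ha hb
  rw [hz', add_self] at h0
  obtain ⟨p, rfl⟩ := ann_eps_one hn h0.symm
  obtain ⟨c, hc, d, hd, rfl⟩ := decomp hn p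
  have e : eps n 1 ^ (n - 1) * (c + d * eps n 2) * eps n 2 =
      c * (eps n 1 ^ (n - 1) * eps n 2) + d * eps n 1 ^ (n - 1) * (eps n 2 ^ 2 + eps n 1 * eps n 2) := by
    have hz0 : eps n 1 ^ (n - 1) * eps n 1 = (0 : P n) := by
      rw [← pow_succ, show n - 1 + 1 = n by omega, eps_one_pow]
    linear_combination -(d * eps n 2) * hz0
  rw [e]
  exact add_mem ha (add_mem (mul_mem hc x_mem) (mul_mem (mul_mem hd (pow_mem (eps_one_mem hn) _)) (w_mem hn)))

include hn hτ1 hτ in
theorem range_add_tau :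
    Set.range (fun y : P n => y + τ y) =
      (fun z : P n => eps n 1 * z) '' (AlgHom.equalizer τ (AlgHom.id (ZMod 2) (P n)) : Set (P n)) := by
  rw [← range_eq hn τ hτ1 hτ]
  ext v
  constructor
  · rintro ⟨y, rfl⟩
    obtain ⟨a, ha, b, hb, rfl⟩ := decomp hn y
    exact ⟨b, hb, (add_tau hn τ hτ1 hτ ha hb).symm⟩
  · rintro ⟨z, hz, rfl⟩
    refine ⟨0 + z * eps n 2, ?_⟩
    exact add_tau hn τ hτ1 hτ (zero_mem _) hz

end tau

include hn in
theorem mul_range_inter {m : ℕ} (hm : m ≤ n) {b : P n} (hb : b ∈ (phi n).range)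
    (hv : eps n 1 * b ∈ Ideal.span ({eps n 1 ^ m} : Set (P n))) :
    ∃ z ∈ (phi n).range, eps n 1 * b = eps n 1 ^ m * z := by
  classical
  obtain ⟨g, rfl⟩ := hb
  replace hv : eps n 1 * phi n g ∈ Ideal.span ({eps n 1 ^ m} : Set (P n)) := hv
  have he1 : phi n (X (some i0)) = eps n 1 := by simp [phi, genImage, i0]
  obtain ⟨r, hr, p, hp, hrp⟩ := Submodule.mem_sup.1 (mem_redSpan hn g)
  have hp0 : phi n p = 0 := presIdeal_le hn (show p ∈ presIdeal n from hp)
  let G : Submodule (ZMod 2) (FreeE n) := Submodule.span (ZMod 2)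
    ((fun d => monomial d (1 : ZMod 2)) '' {d | Red d ∧ d none = 0})
  have hG : ∃ s ∈ G, eps n 1 * phi n g = phi n s := by
    rw [← hrp, map_add, hp0, add_zero]
    clear hrp hp hp0
    induction hr using Submodule.span_induction with
    | mem y hy =>
      obtain ⟨d, hd, rfl⟩ := hy
      obtain ⟨hx, hxa, ha, hc, hb'⟩ := hd
      dsimp only
      by_cases hgood : d none = 0 ∧ d (some i0) + 1 < n
      · refine ⟨monomial (Finsupp.single (some i0) 1 + d) 1, Submodule.subset_span ⟨_, ⟨⟨?_, ?_, ?_, ?_, ?_⟩, ?_⟩, rfl⟩, ?_⟩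
        · simp [hgood.1]
        · simp [hgood.1]
        · simp only [Finsupp.add_apply, Finsupp.single_eq_same]; omega
        · intro i hi
          have : (i0 : Fin (numVars n)) ≠ i := fun e => by simp [← e, i0] at hi
          simpa [this] using hc i hi
        · intro i hi
          have : (i0 : Fin (numVars n)) ≠ i := fun e => by simp [← e, i0] at hi
          simpa [this] using hb' i hi
        · simp [hgood.1]
        · rw [← he1, ← map_mul, X_mul_monomial]
      · refine ⟨0, zero_mem _, ?_⟩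
        rw [map_zero]
        by_cases h0 : d none = 0
        · rw [monomial_mem_of_le (o := some i0) (m := n - 1) (d := d) (by omega), map_mul, map_pow, he1, ← mul_assoc,
            ← pow_succ', show n - 1 + 1 = n by omega, eps_one_pow, zero_mul]
        · rw [monomial_mem_of_le (o := none) (m := 1) (d := d) (by omega), pow_one, map_mul, ← mul_assoc]
          have : phi n (X none) = eps n 1 ^ (n - 1) * eps n 2 := by simp [phi, genImage]
          rw [this, ← mul_assoc (eps n 1), ← pow_succ', show n - 1 + 1 = n by omega, eps_one_pow, zero_mul, zero_mul]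
    | zero => exact ⟨0, zero_mem _, by simp⟩
    | add a b _ _ ha hb =>
      obtain ⟨s, hs, hs'⟩ := ha
      obtain ⟨t, ht, ht'⟩ := hb
      exact ⟨s + t, add_mem hs ht, by rw [map_add, map_add, mul_add, hs', ht']⟩
    | smul c a _ ha =>
      obtain ⟨s, hs, hs'⟩ := ha
      exact ⟨c • s, Submodule.smul_mem _ c hs, by rw [map_smul, map_smul, mul_smul_comm, hs']⟩
  obtain ⟨s, hs, hgs⟩ := hG
  have hsupp : ∀ d ∈ s.support, Red d ∧ d none = 0 := by
    clear hgs
    induction hs using Submodule.span_induction with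
    | mem y hy =>
      obtain ⟨d, hd, rfl⟩ := hy
      intro e he
      rw [support_monomial, if_neg one_ne_zero, Finset.mem_singleton] at he
      exact he ▸ hd
    | zero => simp
    | add a b _ _ ha hb => exact fun e he => (Finset.mem_union.1 (support_add he)).elim (ha e) (hb e)
    | smul r a _ ha => exact fun e he => ha e (support_smul he)
  have hlow : ∀ d ∈ s.support, m ≤ d (some i0) := by
    by_contra hc
    push Not at hc
    obtain ⟨d₀, hd₀, hd₀'⟩ := hc
    obtain ⟨M, hM, hmax⟩ := Finset.exists_max_image (s.support.filter fun d => d (some i0) < m)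
      (fun d => wt (topMon n d)) ⟨d₀, Finset.mem_filter.2 ⟨hd₀, hd₀'⟩⟩
    rw [Finset.mem_filter] at hM
    have hTM : topMon n M i0 < m := by
      rw [topMon_apply hn, if_pos (show (i0 (n := n)).val = 0 from rfl), (hsupp M hM.1).2, mul_zero, add_zero]; exact hM.2
    obtain ⟨q, hq⟩ := Ideal.mem_span_singleton'.1 hv
    obtain ⟨q, rfl⟩ := Ideal.Quotient.mk_surjective q
    rw [hgs, phi_eq hn, eps_eq (i0 (n := n)) (j := 1) rfl, ← map_pow, ← map_mul, eq_comm,
      Ideal.Quotient.eq] at hq
    have hzero : ∀ (k : ℕ) (f : FreeP n) (e : Fin (numVars n) →₀ ℕ), e i0 < k → coeff e (X i0 ^ k * f) = 0 := by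
      intro k f e he
      rw [X_pow_eq_monomial, coeff_monomial_mul', if_neg]
      intro hle
      have := hle i0
      rw [Finsupp.single_eq_same] at this
      omega
    have h1 := coeff_eq_zero_of_mem hq (topMon_lt hn (hsupp M hM.1).1)
    rw [coeff_sub, mul_comm, hzero m q _ hTM, sub_zero, s.as_sum, map_sum, coeff_sum, Finset.sum_eq_single M] at h1
    · rw [← mul_one (coeff M s), ← smul_eq_mul, ← smul_monomial, map_smul, coeff_smul, (lead_aeval hn M).1,
        smul_eq_mul, mul_one] at h1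
      exact mem_support_iff.1 hM.1 h1
    · intro d hd hdm
      rw [← mul_one (coeff d s), ← smul_eq_mul, ← smul_monomial, map_smul, coeff_smul]
      by_contra hne'
      by_cases hdlow : d (some i0) < m
      · rcases (lead_aeval hn d).2 _ (right_ne_zero_of_smul hne') with h | h
        · exact hdm (topMon_inj hn (hsupp d hd).1 (hsupp M hM.1).1 h.symm)
        · exact absurd h (not_lt.2 (hmax d (Finset.mem_filter.2 ⟨hd, hdlow⟩)))
      · apply right_ne_zero_of_smul hne'
        rw [monomial_mem_of_le (o := some i0) (m := m) (by omega), map_mul, map_pow, aeval_X,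
          show lift n (some i0) = X i0 by simp [lift, i0]]
        exact hzero m _ _ hTM
    · exact fun h => absurd hM.1 h
  refine ⟨phi n (∑ d ∈ s.support, monomial (d - Finsupp.single (some i0) m) (coeff d s)), ⟨_, rfl⟩, ?_⟩
  change eps n 1 * phi n g = _
  rw [hgs, ← he1, ← map_pow, ← map_mul, Finset.mul_sum]
  congr 1
  conv_lhs => rw [s.as_sum]
  refine Finset.sum_congr rfl fun d hd => ?_
  rw [X_pow_eq_monomial, monomial_mul, one_mul, add_tsub_cancel_of_le (Finsupp.single_le_iff.2 (hlow d hd))]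

end Groth.Agent.TruncFixLib
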